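import Mathlib
import Cfsg.Agent.Lib.Helper32.Scn.Tools

/-!
# S1904 package (MF): the case `n = 2` of a maximal invariant abelian normal subgroup is impossible.
-/

set_option autoImplicit false

universe u

namespace Cfsg.Agent.Lib.Helper25.Scn

open Cfsg.Agent.Lib.Helper32.Scn

variable {X : Type u} [Group X]

/-- the commutator map `m ↦ g m g⁻¹ m⁻¹`. -/
def cm (g m : X) : X := g * m * g⁻¹ * m⁻¹

theorem cm_mul_right (g m m' : X) (h : cm g m' ∈ omZ X) : cm g (m * m') = cm g m * cm g m' := by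
  unfold cm at h ⊢
  calc g * (m * m') * g⁻¹ * (m * m')⁻¹
      = (g * m * g⁻¹) * ((g * m' * g⁻¹ * m'⁻¹) * m⁻¹) := by group
    _ = (g * m * g⁻¹) * (m⁻¹ * (g * m' * g⁻¹ * m'⁻¹)) := by rw [omZ_comm h m⁻¹]
    _ = g * m * g⁻¹ * m⁻¹ * (g * m' * g⁻¹ * m'⁻¹) := by group

theorem cm_mul_left (g g' m : X) (h : cm g' m ∈ omZ X) : cm (g * g') m = cm g m * cm g' m := by
  unfold cm at h ⊢
  calc g * g' * m * (g * g')⁻¹ * m⁻¹
      = (g * (g' * m * g'⁻¹ * m⁻¹)) * (m * g⁻¹ * m⁻¹) := by group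
    _ = ((g' * m * g'⁻¹ * m⁻¹) * g) * (m * g⁻¹ * m⁻¹) := by rw [omZ_comm h g]
    _ = (g' * m * g'⁻¹ * m⁻¹) * (g * m * g⁻¹ * m⁻¹) := by group
    _ = (g * m * g⁻¹ * m⁻¹) * (g' * m * g'⁻¹ * m⁻¹) := (omZ_comm h _).symm

theorem cm_one_left (m : X) : cm 1 m = 1 := by simp [cm]

theorem cm_central (g : X) {t : X} (ht : t ∈ omZ X) : cm g t = 1 := by
  unfold cm
  rw [omZ_comm ht g]
  group

theorem cm_mul_central (g m : X) {t : X} (ht : t ∈ omZ X) : cm g (m * t) = cm g m := by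
  have h1 : cm g t = 1 := cm_central g ht
  rw [cm_mul_right g m t (by rw [h1]; exact (omZ X).one_mem), h1, mul_one]

theorem cm_aut (ψ : MulAut X) (g m : X) : ψ (cm g m) = cm (ψ g) (ψ m) := by
  simp [cm]

theorem cm_psi (ψ : MulAut X) (x m : X) : cm (ψ x) m = ψ (cm x (ψ⁻¹ m)) := by
  rw [cm_aut]
  simp

theorem psi_inv_eq {ψ : MulAut X} {s t : X} (e : ψ t = s) : ψ⁻¹ s = t := by
  rw [← e]
  simp

theorem V_idB {P P' Q : X} (hP : P ∈ omZ X) (hP' : P' ∈ omZ X) :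
    Q * P' = P * P' * (P * Q) := by
  calc Q * P' = P' * Q := omZ_comm hP' Q
    _ = P' * (P * P) * Q := by rw [omZ_sq hP, mul_one]
    _ = (P' * P) * (P * Q) := by group
    _ = (P * P') * (P * Q) := by rw [omZ_comm hP P']

theorem V_idC {Q Q' R : X} (hQ : Q ∈ omZ X) : Q * (R * (Q * Q')) = R * Q' := by
  calc Q * (R * (Q * Q')) = (Q * R) * Q * Q' := by group
    _ = (R * Q) * Q * Q' := by rw [← omZ_comm hQ R]
    _ = R * (Q * Q) * Q' := by group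
    _ = R * Q' := by rw [omZ_sq hQ, mul_one]

/-- the elements `g` with `[g, x] ∈ omZ X`. -/
def cSub (x : X) : Subgroup X where
  carrier := {g | g * x * g⁻¹ * x⁻¹ ∈ omZ X}
  one_mem' := by
    show (1 : X) * x * 1⁻¹ * x⁻¹ ∈ omZ X
    have : (1 : X) * x * 1⁻¹ * x⁻¹ = 1 := by group
    rw [this]; exact (omZ X).one_mem
  mul_mem' := by
    intro g g' hg hg'
    have hg1 : g * x * g⁻¹ * x⁻¹ ∈ omZ X := hg
    have hg2 : g' * x * g'⁻¹ * x⁻¹ ∈ omZ X := hg'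
    have e : g * g' * x * (g * g')⁻¹ * x⁻¹
        = (g' * x * g'⁻¹ * x⁻¹) * (g * x * g⁻¹ * x⁻¹) := by
      calc g * g' * x * (g * g')⁻¹ * x⁻¹
          = (g * (g' * x * g'⁻¹ * x⁻¹)) * (x * g⁻¹ * x⁻¹) := by group
        _ = ((g' * x * g'⁻¹ * x⁻¹) * g) * (x * g⁻¹ * x⁻¹) := by rw [omZ_comm hg2 g]
        _ = (g' * x * g'⁻¹ * x⁻¹) * (g * x * g⁻¹ * x⁻¹) := by group
    show g * g' * x * (g * g')⁻¹ * x⁻¹ ∈ omZ X
    rw [e]
    exact (omZ X).mul_mem hg2 hg1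
  inv_mem' := by
    intro g hg
    have hg1 : g * x * g⁻¹ * x⁻¹ ∈ omZ X := hg
    have hd := (omZ X).inv_mem hg1
    have e : g⁻¹ * x * g⁻¹⁻¹ * x⁻¹ = g⁻¹ * ((g * x * g⁻¹ * x⁻¹)⁻¹ * g) := by group
    show g⁻¹ * x * g⁻¹⁻¹ * x⁻¹ ∈ omZ X
    rw [e, ← omZ_comm hd g, inv_mul_cancel_left]
    exact hd

theorem mem_cSub {x g : X} : g ∈ cSub x ↔ g * x * g⁻¹ * x⁻¹ ∈ omZ X := Iff.rfl

/-- The working context for `n = 2`. -/
structure Ctx (X : Type u) [Group X] (A : Subgroup (MulAut X)) (φ : MulAut X)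
    (M : Subgroup X) : Prop where
  b : BCtx X A φ
  nrm : M.Normal
  inv : ∀ ψ ∈ A, ∀ m ∈ M, ψ m ∈ M
  ab : ∀ a ∈ M, ∀ b ∈ M, a * b = b * a
  W_le : bigW X ≤ M
  V_le : omZ X ≤ M
  invol : ∀ m ∈ M, m * m = 1 → m ∈ omZ X
  sq : ∀ m ∈ M, m * m ∈ omZ X
  top : ∀ v ∈ omZ X, ∃ m ∈ M, m * m = v
  cen : ∀ x : X, (∀ m ∈ M, x * m = m * x) → x ∈ M
  cmV : ∀ g : X, ∀ m ∈ M, cm g m ∈ omZ X

theorem ctx_of {A : Subgroup (MulAut X)} {φ : MulAut X} {M : Subgroup X}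
    (hc : MCtx X A φ M 2) (ht : MT X M 2) : Ctx X A φ M := by
  have hb := hc.c.b
  have hne : M ≠ ⊥ := by
    obtain ⟨m, hm, hmV⟩ := hc.c.ne
    intro h
    rw [h, Subgroup.mem_bot] at hm
    exact hmV (hm ▸ (omZ X).one_mem)
  obtain ⟨hVle, hinv⟩ := hb.abel M hc.c.nrm hc.c.inv hc.c.ab hne
  have hsq : ∀ m ∈ M, m * m ∈ omZ X := by
    intro m hm
    apply hinv _ (M.mul_mem hm hm)
    have h4 := hc.exp m hm
    have e : m * m * (m * m) = m ^ (2 ^ 2) := by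
      simp only [show (2 : ℕ) ^ 2 = 4 from rfl, pow_succ, pow_zero, one_mul, mul_assoc]
    rw [e, h4]
  refine ⟨hb, hc.c.nrm, hc.c.inv, hc.c.ab, hc.c.W_le, hVle, hinv, hsq, ?_, ht.cen, ?_⟩
  · intro v hv
    obtain ⟨m, hm, h⟩ := hc.top v hv
    refine ⟨m, hm, ?_⟩
    rw [← h]
    norm_num [pow_two]
  · intro g m hm
    have h1 : cm g m ∈ M := by
      have := hc.c.nrm.conj_mem m hm g
      exact M.mul_mem this (M.inv_mem hm)
    apply hinv _ h1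
    have h2 := ht.lvn g m hm
    rw [← h2]
    norm_num [pow_two, cm]

namespace Ctx

variable {A : Subgroup (MulAut X)} {φ : MulAut X} {M : Subgroup X}

theorem cm_mul (h : Ctx X A φ M) (g : X) (m : X) {m' : X} (hm' : m' ∈ M) :
    cm g (m * m') = cm g m * cm g m' :=
  cm_mul_right g m m' (h.cmV g m' hm')

theorem cm_gmul (h : Ctx X A φ M) (g g' : X) {m : X} (hm : m ∈ M) :
    cm (g * g') m = cm g m * cm g' m :=
  cm_mul_left g g' m (h.cmV g' m hm)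

theorem cm_sq (h : Ctx X A φ M) (g : X) {m : X} (hm : m ∈ M) : cm g m * cm g m = 1 :=
  omZ_sq (h.cmV g m hm)

theorem cm_ginv (h : Ctx X A φ M) (g : X) {m : X} (hm : m ∈ M) : cm g⁻¹ m = cm g m := by
  have h1 := h.cm_gmul g g⁻¹ hm
  rw [mul_inv_cancel, cm_one_left] at h1
  have h2 := h.cm_sq g hm
  exact (mul_left_cancel (h2.trans h1)).symm

theorem cm_eq_of_sq (h : Ctx X A φ M) (g : X) {m m' : X} (hm : m ∈ M) (hm' : m' ∈ M)
    (e : m * m = m' * m') : cm g m = cm g m' := by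
  have ht : m⁻¹ * m' ∈ omZ X := by
    apply h.invol _ (M.mul_mem (M.inv_mem hm) hm')
    have hcomm := h.ab m' hm' m⁻¹ (M.inv_mem hm)
    calc m⁻¹ * m' * (m⁻¹ * m') = m⁻¹ * (m' * m⁻¹) * m' := by group
      _ = m⁻¹ * (m⁻¹ * m') * m' := by rw [hcomm]
      _ = m⁻¹ * m⁻¹ * (m' * m') := by group
      _ = m⁻¹ * m⁻¹ * (m * m) := by rw [e]
      _ = 1 := by group
  have e2 : cm g m' = cm g (m * (m⁻¹ * m')) := by
    congr 1
    group
  rw [e2, cm_mul_central g m ht]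

theorem cm_phi2 (h : Ctx X A φ M) (g : X) {m : X} (hm : m ∈ M) :
    cm g (φ (φ m)) = cm g m * cm g (φ m) := by
  have hφm := h.inv φ h.b.φmem m hm
  have hφφm := h.inv φ h.b.φmem _ hφm
  have e : φ (φ m) * φ (φ m) = (m * φ m) * (m * φ m) := by
    rw [← map_mul, ← map_mul, ← h.b.mul_phi (h.sq m hm), map_mul]
    have hcomm := h.ab m hm (φ m) hφm
    calc m * m * (φ m * φ m) = m * (m * φ m) * φ m := by group
      _ = m * (φ m * m) * φ m := by rw [hcomm]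
      _ = m * φ m * (m * φ m) := by group
  rw [h.cm_eq_of_sq g hφφm (M.mul_mem hm hφm) e, h.cm_mul g m hφm]

theorem cm_trivial (h : Ctx X A φ M) {g : X}
    (hg : ∀ m ∈ M, cm g (φ m) = φ (φ (cm g m))) {m₀ : X} (hm₀ : m₀ ∈ M)
    (hne : m₀ * m₀ ≠ 1) (h0 : cm g m₀ = 1) : ∀ m ∈ M, cm g m = 1 := by
  intro m hm
  have hv := h.sq m₀ hm₀
  have hφ := h.inv φ h.b.φmem m₀ hm₀
  have hφφ := h.inv φ h.b.φmem _ hφ
  rcases h.b.V_cases hv hne (m * m) (h.sq m hm) with e | e | e | e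
  · exact cm_central g (h.invol m hm e)
  · rw [h.cm_eq_of_sq g hm hm₀ e, h0]
  · have e' : m * m = φ m₀ * φ m₀ := by rw [e, map_mul]
    rw [h.cm_eq_of_sq g hm hφ e', hg m₀ hm₀, h0, map_one, map_one]
  · have e' : m * m = φ (φ m₀) * φ (φ m₀) := by rw [e, map_mul, map_mul]
    rw [h.cm_eq_of_sq g hm hφφ e', h.cm_phi2 g hm₀, hg m₀ hm₀, h0, map_one, map_one, mul_one]

theorem mem_of_cm_trivial (h : Ctx X A φ M) {g : X} (hc : ∀ m ∈ M, cm g m = 1) : g ∈ M := by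
  apply h.cen
  intro m hm
  have h1 := hc m hm
  unfold cm at h1
  calc g * m = (g * m * g⁻¹ * m⁻¹) * (m * g) := by group
    _ = m * g := by rw [h1, one_mul]

/-- the elements acting "semilinearly". -/
def SLsub (h : Ctx X A φ M) : Subgroup X where
  carrier := {x | ∀ m ∈ M, cm x (φ m) = φ (φ (cm x m))}
  one_mem' := by
    intro m _
    simp [cm_one_left]
  mul_mem' := by
    intro x y hx hy m hm
    have hφm := h.inv φ h.b.φmem m hm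
    rw [h.cm_gmul x y hφm, h.cm_gmul x y hm, hx m hm, hy m hm, map_mul, map_mul]
  inv_mem' := by
    intro x hx m hm
    have hφm := h.inv φ h.b.φmem m hm
    rw [h.cm_ginv x hφm, h.cm_ginv x hm, hx m hm]

theorem cm_psi_A (h : Ctx X A φ M) {ψ : MulAut X} (hψ : ψ ∈ A) (hA : ∀ v ∈ omZ X, ψ v = v)
    (x : X) {m : X} (hm : m ∈ M) : cm (ψ x) m = cm x m := by
  have hm' : ψ⁻¹ m ∈ M := h.inv ψ⁻¹ (A.inv_mem hψ) m hm
  have e : ψ⁻¹ m * ψ⁻¹ m = m * m := by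
    rw [← map_mul]
    exact psi_inv_eq (hA _ (h.sq m hm))
  rw [cm_psi, h.cm_eq_of_sq x hm' hm e, hA _ (h.cmV x m hm)]

theorem cm_psi_B (h : Ctx X A φ M) {ψ : MulAut X} (hψ : ψ ∈ A)
    (hB : ∀ v ∈ omZ X, ψ v = φ v) (x : X) {m : X} (hm : m ∈ M) :
    cm (ψ x) m = φ (cm x m * cm x (φ m)) := by
  have hm' : ψ⁻¹ m ∈ M := h.inv ψ⁻¹ (A.inv_mem hψ) m hm
  have hφm := h.inv φ h.b.φmem m hm
  have hφφm := h.inv φ h.b.φmem _ hφm
  have hs := h.sq m hm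
  have e : ψ⁻¹ m * ψ⁻¹ m = φ (φ m) * φ (φ m) := by
    rw [← map_mul, ← map_mul, ← map_mul]
    apply psi_inv_eq
    rw [hB _ (h.b.phi_mem (h.b.phi_mem hs)), h.b.phi3 hs]
  rw [cm_psi, h.cm_eq_of_sq x hm' hφφm e, h.cm_phi2 x hm]
  exact hB _ ((omZ X).mul_mem (h.cmV x m hm) (h.cmV x _ hφm))

theorem cm_psi_C (h : Ctx X A φ M) {ψ : MulAut X} (hψ : ψ ∈ A)
    (hC : ∀ v ∈ omZ X, ψ v = φ (φ v)) (x : X) {m : X} (hm : m ∈ M) :
    cm (ψ x) m = φ (φ (cm x (φ m))) := by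
  have hm' : ψ⁻¹ m ∈ M := h.inv ψ⁻¹ (A.inv_mem hψ) m hm
  have hφm := h.inv φ h.b.φmem m hm
  have hs := h.sq m hm
  have e : ψ⁻¹ m * ψ⁻¹ m = φ m * φ m := by
    rw [← map_mul, ← map_mul]
    apply psi_inv_eq
    rw [hC _ (h.b.phi_mem hs), h.b.phi3 hs]
  rw [cm_psi, h.cm_eq_of_sq x hm' hφm e]
  exact hC _ (h.cmV x _ hφm)

theorem SL_gen (h : Ctx X A φ M) {ψ : MulAut X} (hψ : ψ ∈ A) (x : X) :
    x⁻¹ * ψ x ∈ h.SLsub := by
  intro m hm
  have hφm := h.inv φ h.b.φmem m hm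
  have hp := h.cmV x m hm
  have hq := h.cmV x _ hφm
  rw [h.cm_gmul _ _ hφm, h.cm_gmul _ _ hm, h.cm_ginv x hφm, h.cm_ginv x hm]
  rcases h.b.actV ψ hψ with hA | hB | hC
  · rw [h.cm_psi_A hψ hA x hφm, h.cm_psi_A hψ hA x hm, omZ_sq hq, omZ_sq hp, map_one, map_one]
  · rw [h.cm_psi_B hψ hB x hφm, h.cm_psi_B hψ hB x hm, h.cm_phi2 x hm]
    have e1 : cm x (φ m) * (cm x m * cm x (φ m)) = cm x m := by
      calc cm x (φ m) * (cm x m * cm x (φ m)) = (cm x (φ m) * cm x m) * cm x (φ m) := by group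
        _ = (cm x m * cm x (φ m)) * cm x (φ m) := by rw [omZ_comm hp (cm x (φ m))]
        _ = cm x m * (cm x (φ m) * cm x (φ m)) := by group
        _ = cm x m := by rw [omZ_sq hq, mul_one]
    rw [e1]
    simp only [map_mul]
    rw [h.b.phi3 hp, h.b.phi3 hq, ← h.b.mul_phi hp]
    exact V_idB hp (h.b.phi_mem hp)
  · rw [h.cm_psi_C hψ hC x hφm, h.cm_psi_C hψ hC x hm, h.cm_phi2 x hm]
    simp only [map_mul]
    rw [h.b.phi3 (h.b.phi_mem hq), ← h.b.mul_phi hq]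
    exact V_idC hq

theorem SL_all (h : Ctx X A φ M) (x : X) : x ∈ h.SLsub :=
  h.b.hyp.top_of_mem h.SLsub (fun _ hψ x => h.SL_gen hψ x) x

theorem final (h : Ctx X A φ M) : False := by
  have hSL : ∀ g : X, ∀ m ∈ M, cm g (φ m) = φ (φ (cm g m)) := fun g => h.SL_all g
  obtain ⟨v₁, hv₁, hv₁1⟩ : ∃ v ∈ omZ X, v ≠ 1 := by
    by_contra hcon
    push Not at hcon
    have hbot : omZ X = ⊥ := by
      rw [Subgroup.eq_bot_iff_forall]
      exact hcon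
    have h4 := h.b.Vcard
    rw [hbot] at h4
    simp at h4
  obtain ⟨m₁, hm₁, e₁⟩ := h.top v₁ hv₁
  have hm₁ne : m₁ * m₁ ≠ 1 := by rw [e₁]; exact hv₁1
  have hker : ∀ g, cm g m₁ = 1 → g ∈ M := fun g hg =>
    h.mem_of_cm_trivial (h.cm_trivial (hSL g) hm₁ hm₁ne hg)
  have hθφ : ∀ g, cm (φ g) m₁ = φ (φ (cm g m₁)) := by
    intro g
    have hB : ∀ v ∈ omZ X, φ v = φ v := fun _ _ => rfl
    have ha := h.cmV g m₁ hm₁
    rw [h.cm_psi_B h.b.φmem hB g hm₁, hSL g m₁ hm₁, map_mul, h.b.phi3 ha, ← h.b.mul_phi ha]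
    exact omZ_comm ha _
  obtain ⟨x, hx⟩ : ∃ x, x ∉ M := by
    obtain ⟨a, b, hab⟩ := h.b.hyp.na
    by_contra hcon
    push Not at hcon
    exact hab (h.ab a (hcon a) b (hcon b))
  have haV : cm x m₁ ∈ omZ X := h.cmV x m₁ hm₁
  have ha1 : cm x m₁ ≠ 1 := fun hc => hx (hker x hc)
  have hθy : cm (φ x) m₁ = φ (φ (cm x m₁)) := hθφ x
  have hθφy : cm (φ (φ x)) m₁ = φ (cm x m₁) := by
    rw [hθφ (φ x), hθy]
    exact h.b.phi3 (h.b.phi_mem haV)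
  have hθxy : cm (x * φ x) m₁ = φ (cm x m₁) := by
    rw [h.cm_gmul x (φ x) hm₁, hθy, ← h.b.mul_phi haV, ← mul_assoc, omZ_sq haV, one_mul]
  have hm : (x * φ x)⁻¹ * φ (φ x) ∈ M := by
    apply hker
    rw [h.cm_gmul _ _ hm₁, h.cm_ginv _ hm₁, hθxy, hθφy]
    exact omZ_sq (h.b.phi_mem haV)
  obtain ⟨y, hy⟩ : ∃ y, y = φ x := ⟨_, rfl⟩
  obtain ⟨m, hmM, hφy⟩ : ∃ m ∈ M, φ y = x * y * m := by
    refine ⟨(x * φ x)⁻¹ * φ (φ x), hm, ?_⟩
    rw [hy]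
    group
  have hθy' : cm y m₁ = φ (φ (cm x m₁)) := by rw [hy]; exact hθy
  have hbV : cm y m₁ ∈ omZ X := h.cmV y m₁ hm₁
  have hkM : x * y * x⁻¹ * y⁻¹ ∈ M := by
    apply hker
    rw [h.cm_gmul _ _ hm₁, h.cm_gmul _ _ hm₁, h.cm_gmul _ _ hm₁, h.cm_ginv _ hm₁,
      h.cm_ginv _ hm₁]
    calc cm x m₁ * cm y m₁ * cm x m₁ * cm y m₁
        = cm x m₁ * (cm y m₁ * cm x m₁) * cm y m₁ := by group
      _ = cm x m₁ * (cm x m₁ * cm y m₁) * cm y m₁ := by rw [omZ_comm haV (cm y m₁)]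
      _ = (cm x m₁ * cm x m₁) * (cm y m₁ * cm y m₁) := by group
      _ = 1 := by rw [omZ_sq haV, omZ_sq hbV, one_mul]
  have hu := h.cmV y m hmM
  have hφk : φ (x * y * x⁻¹ * y⁻¹) = cm y m * (x * y * x⁻¹ * y⁻¹)⁻¹ := by
    calc φ (x * y * x⁻¹ * y⁻¹) = y * (x * y * m) * y⁻¹ * (x * y * m)⁻¹ := by
          simp only [map_mul, map_inv, ← hy, hφy]
      _ = (y * x) * (y * m * y⁻¹ * m⁻¹) * (y⁻¹ * x⁻¹) := by group
      _ = (y * x) * cm y m * (y⁻¹ * x⁻¹) := rfl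
      _ = cm y m * (y * x) * (y⁻¹ * x⁻¹) := by rw [omZ_comm hu (y * x)]
      _ = cm y m * (x * y * x⁻¹ * y⁻¹)⁻¹ := by group
  obtain ⟨k, hk⟩ : ∃ k, k = x * y * x⁻¹ * y⁻¹ := ⟨_, rfl⟩
  rw [← hk] at hkM hφk
  have hkk : k * k = 1 := by
    by_contra hne
    apply h.b.φV (k * k) (h.sq k hkM) hne
    have hkkV := h.sq k hkM
    calc φ (k * k) = cm y m * k⁻¹ * (cm y m * k⁻¹) := by rw [map_mul, hφk]
      _ = cm y m * (k⁻¹ * cm y m) * k⁻¹ := by group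
      _ = cm y m * (cm y m * k⁻¹) * k⁻¹ := by rw [omZ_comm hu k⁻¹]
      _ = (cm y m * cm y m) * (k * k)⁻¹ := by group
      _ = k * k := by rw [omZ_sq hu, one_mul, omZ_inv hkkV]
  have hkV : k ∈ omZ X := h.invol k hkM hkk
  -- every `g` has `[g, x] ∈ omZ X`
  have hMle : ∀ g ∈ M, g ∈ cSub x := by
    intro g hg
    rw [mem_cSub]
    have hc := h.cmV x g⁻¹ (M.inv_mem hg)
    have e : g * x * g⁻¹ * x⁻¹ = g * cm x g⁻¹ * g⁻¹ := by
      unfold cm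
      group
    rw [e, omZ_comm hc g, mul_inv_cancel_right]
    exact hc
  have hxS : x ∈ cSub x := by
    rw [mem_cSub]
    have : x * x * x⁻¹ * x⁻¹ = 1 := by group
    rw [this]
    exact (omZ X).one_mem
  have hyS : y ∈ cSub x := by
    rw [mem_cSub]
    have : y * x * y⁻¹ * x⁻¹ = k⁻¹ := by rw [hk]; group
    rw [this]
    exact (omZ X).inv_mem hkV
  have hstep : ∀ g w : X, w ∈ cSub x → cm g m₁ = cm w m₁ → g ∈ cSub x := by
    intro g w hw e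
    have hgw : g * w⁻¹ ∈ M := by
      apply hker
      rw [h.cm_gmul _ _ hm₁, h.cm_ginv _ hm₁, e]
      exact h.cm_sq w hm₁
    have : g = (g * w⁻¹) * w := by group
    rw [this]
    exact (cSub x).mul_mem (hMle _ hgw) hw
  have hall : ∀ g : X, g * x * g⁻¹ * x⁻¹ ∈ omZ X := by
    intro g
    rw [← mem_cSub]
    rcases h.b.V_cases haV ha1 (cm g m₁) (h.cmV g m₁ hm₁) with e | e | e | e
    · exact hMle g (hker g e)
    · exact hstep g x hxS e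
    · refine hstep g (x * y) ((cSub x).mul_mem hxS hyS) ?_
      rw [e, hy, hθxy]
    · refine hstep g y hyS ?_
      rw [e, hθy']
  have hxx : ∀ g : X, g * (x * x) = (x * x) * g := by
    intro g
    obtain ⟨d, hd, e1⟩ : ∃ d ∈ omZ X, g * x = d * x * g :=
      ⟨g * x * g⁻¹ * x⁻¹, hall g, by group⟩
    calc g * (x * x) = (g * x) * x := by group
      _ = (d * x * g) * x := by rw [e1]
      _ = d * x * (g * x) := by group
      _ = d * x * (d * x * g) := by rw [e1]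
      _ = d * (x * d) * x * g := by group
      _ = d * (d * x) * x * g := by rw [omZ_comm hd x]
      _ = (d * d) * (x * x) * g := by group
      _ = x * x * g := by rw [omZ_sq hd, one_mul]
  have hzM : x * x ∈ M := h.cen (x * x) (fun m _ => (hxx m).symm)
  by_cases hzz : (x * x) * (x * x) = 1
  · have hzV : x * x ∈ omZ X := ⟨Subgroup.mem_center_iff.mpr hxx, hzz⟩
    have hxW : x ∈ bigW X := ⟨hzV, hall⟩
    exact hx (h.W_le hxW)
  · have hgz : ∀ g, cm g (x * x) = 1 := fun g => by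
      unfold cm
      rw [hxx g]
      group
    exact hx (h.mem_of_cm_trivial (h.cm_trivial (hSL x) hzM hzz (hgz x)))

end Ctx

theorem lemMF : LemMF.{u} := by
  intro X _ _ A φ M n hc ht hn
  subst hn
  exact (ctx_of hc ht).final

end Cfsg.Agent.Lib.Helper25.Scn
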